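import Groth.Agent.CohLib.ModSS
import Groth.Agent.CohLib.ModNull
import Groth.Agent.CohLib.Restrict
import Groth.Agent.CohLib.InjModule
import Groth.Agent.RDerLib.LeftExact
import Groth.Agent.ModSiteLib.ExtZero

/-!
# Totally acyclic modules are acyclic for sections with supports
-/

set_option autoImplicit false
set_option linter.style.haveILetI false
set_option backward.isDefEq.respectTransparency false

universe u

open CategoryTheory Limits Opposite CategoryTheory.Abelian
open ModSiteLib (PMod aP jP adjP)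

namespace HZSubLib

variable {C : Type u} [SmallCategory C] {J : GrothendieckTopology C} {O : Sheaf J CommRingCat.{u}}

theorem exists_free_eq {X : C} (F : Sheaf J AddCommGrpCat.{u}) (s : F.obj.obj (op X)) :
    ∃ f : CohCx.freeSheaf J X ⟶ F,
      f.hom.app (op X) ((toSheafify J (yoneda.obj X ⋙ AddCommGrpCat.free.{u})).app (op X) (FreeAbelianGroup.of (𝟙 X))) = s := by
  let g : yoneda.obj X ⋙ AddCommGrpCat.free.{u} ⟶ F.obj :=
    { app := fun Y => AddCommGrpCat.ofHom (FreeAbelianGroup.lift fun k : Y.unop ⟶ X => F.obj.map k.op s)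
      naturality := fun Y Z a => by
        ext : 1
        refine FreeAbelianGroup.lift_ext _ _ fun k => ?_
        show FreeAbelianGroup.lift (fun k : Z.unop ⟶ X => F.obj.map k.op s)
            (FreeAbelianGroup.map _ (FreeAbelianGroup.of k)) =
          F.obj.map a (FreeAbelianGroup.lift (fun k : Y.unop ⟶ X => F.obj.map k.op s) (FreeAbelianGroup.of k))
        rw [FreeAbelianGroup.map_of_apply, FreeAbelianGroup.lift_apply_of, FreeAbelianGroup.lift_apply_of]
        exact ConcreteCategory.congr_hom (F.obj.map_comp k.op a) s }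
  refine ⟨⟨sheafifyLift J g F.property⟩, ?_⟩
  refine (congrArg (fun t : yoneda.obj X ⋙ AddCommGrpCat.free.{u} ⟶ F.obj => t.app (op X) (FreeAbelianGroup.of (𝟙 X)))
    (toSheafify_sheafifyLift J g F.property)).trans ?_
  show FreeAbelianGroup.lift (fun k : X ⟶ X => F.obj.map k.op s) (FreeAbelianGroup.of (𝟙 X)) = s
  rw [FreeAbelianGroup.lift_apply_of, op_id, F.obj.map_id]
  rfl

/-- Sections of a quotient by a totally acyclic sheaf lift. -/
theorem surjective_app_of_isTotallyAcyclic {S : ShortComplex (Sheaf J AddCommGrpCat.{u})} (hS : S.ShortExact)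
    (h : CohCx.IsTotallyAcyclic S.X₁) (X : C) : Function.Surjective (S.g.hom.app (op X)) := by
  intro s
  obtain ⟨f, rfl⟩ := exists_free_eq S.X₃ s
  haveI : Subsingleton (Ext.{u} (CohCx.freeSheaf J X) S.X₁ 1) :=
    haveI : Subsingleton (Ext ((CohLib.Z J).obj ((presheafToSheaf J (Type u)).obj (yoneda.obj X))) S.X₁ 1) := h _ 0
    CohLib.subsingleton_ext_of_iso (CohLib.ZSheafifyIso J (yoneda.obj X)) (F := S.X₁) (n := 1)
  obtain ⟨f', rfl⟩ := CohLib.exists_lift_of_subsingleton_ext_one hS f
  exact ⟨_, rfl⟩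

/-- Compatible sections over a sieve extend to a totally acyclic sheaf. -/
theorem exists_amalgamation {F : Sheaf J AddCommGrpCat.{u}} (h : CohCx.IsTotallyAcyclic F) {X : C} (S : Sieve X)
    (ν : ∀ (Y : C) (k : Y ⟶ X), S.arrows k → F.obj.obj (op Y))
    (hν : ∀ (Y Z : C) (a : Z ⟶ Y) (k : Y ⟶ X) (hk : S.arrows k),
      F.obj.map a.op (ν Y k hk) = ν Z (a ≫ k) (S.downward_closed hk a)) :
    ∃ μ : F.obj.obj (op X), ∀ (Y : C) (k : Y ⟶ X) (hk : S.arrows k), F.obj.map k.op μ = ν Y k hk := by
  let a := presheafToSheaf J (Type u)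
  let ad := sheafificationAdjunction J (Type u)
  let F' : Sheaf J (Type u) := (sheafCompose J (forget AddCommGrpCat.{u})).obj F
  let g : S.functor ⟶ F'.obj :=
    { app := fun Y => ↾fun k => ν Y.unop k.1 k.2
      naturality := fun Y Z b => by
        ext k
        exact (hν Y.unop Z.unop b.unop k.1 k.2).symm }
  let g' : a.obj S.functor ⟶ F' := (ad.homEquiv _ _).symm g
  haveI : Mono (a.map S.functorInclusion) := inferInstance
  obtain ⟨t, ht⟩ := CohLib.exists_extension_of_isTotallyAcyclic h (a.map S.functorInclusion)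
    (((CohLib.adjZ J).homEquiv _ _).symm g')
  let t' : a.obj (yoneda.obj X) ⟶ F' := (CohLib.adjZ J).homEquiv _ _ t
  have ht' : a.map S.functorInclusion ≫ t' = g' := by
    rw [← Adjunction.homEquiv_naturality_left, ht, Equiv.apply_symm_apply]
  let u' : yoneda.obj X ⟶ F'.obj := ad.homEquiv _ _ t'
  have hu : S.functorInclusion ≫ u' = g := by
    rw [← Adjunction.homEquiv_naturality_left, ht']
    exact (ad.homEquiv S.functor F').apply_symm_apply g
  refine ⟨u'.app (op X) (𝟙 X), fun Y k hk => ?_⟩
  have h1 := (NatTrans.naturality_apply u' k.op (𝟙 X)).symm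
  have h2 := ConcreteCategory.congr_hom (congrArg (fun b : S.functor ⟶ F'.obj => b.app (op Y)) hu) ⟨k, hk⟩
  refine h1.trans (Eq.trans ?_ h2)
  exact congrArg (u'.app (op Y)) (Category.comp_id k)

variable (U : C) [ModSite.HasPushOver O U]

/-- A section vanishing wherever the object is available is killed by the unit. -/
theorem unit_app_eq_zero {Q : ModSite.Mod O} {X : C} (m : Q.val.obj (op X))
    (h : ∀ (Y : C) (k : Y ⟶ X), Nonempty (Y ⟶ U) → Q.val.map k.op m = 0) :
    ((ModSite.restrPushOverAdj O U).unit.app Q).val.app (op X) m = 0 := by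
  let F : PMod O := (PresheafOfModules.free (O.obj ⋙ forget₂ CommRingCat.{u} RingCat.{u})).obj (yoneda.obj X)
  let f : F ⟶ (jP O).obj Q := PresheafOfModules.freeObjDesc
    { app := fun Y => ↾fun k => Q.val.map k.op m
      naturality := fun Y Z b => by
        ext k
        exact PresheafOfModules.map_comp_apply _ k.op b m }
  let φ : (aP O).obj F ⟶ Q := ((adjP O).homEquiv _ _).symm f
  have hf : (adjP O).unit.app F ≫ (jP O).map φ = f := by
    exact ((adjP O).homEquiv_unit F Q φ).symm.trans (((adjP O).homEquiv F Q).apply_symm_apply f)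
  have hz : φ ≫ (ModSite.restrPushOverAdj O U).unit.app Q = 0 := by
    rw [← CohLib.counit_comp_zero_iff_unit, CohLib.counit_comp_eq_zero_iff, CohLib.clp_comp_eq_zero_iff]
    rintro Y ⟨g⟩ s
    have hW := ModSiteLib.W_unit O F
    rw [GrothendieckTopology.W_iff_isLocallyBijective] at hW
    haveI := hW.2
    have hS := Presheaf.imageSieve_mem J ((PresheafOfModules.toPresheaf _).map ((adjP O).unit.app F)) (U := Y) s
    refine Presheaf.IsSheaf.isSeparated Q.isSheaf (unop Y) _ hS _ _ fun Z b ⟨t, ht⟩ => ?_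
    refine Eq.trans ?_ (map_zero (Q.val.presheaf.map b.op).hom).symm
    refine (PresheafOfModules.naturality_apply φ.val b.op s).symm.trans ?_
    refine (congrArg (φ.val.app (op Z)) ht).symm.trans ?_
    refine (congrArg (fun a : F ⟶ (jP O).obj Q => a.app (op Z) t) hf).trans ?_
    have hzero : f.app (op Z) = 0 := by
      refine ModuleCat.free_hom_ext fun k => ?_
      refine (ModuleCat.freeDesc_apply _ k).trans ?_
      exact h Z k ⟨b ≫ g⟩
    rw [hzero]
    rfl
  have h1 := congrArg (fun a : (aP O).obj F ⟶ _ =>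
    a.val.app (op X) (((adjP O).unit.app F).app (op X) (ModuleCat.freeMk (R := O.obj.obj (op X)) (𝟙 X : X ⟶ X)))) hz
  refine Eq.trans ?_ h1
  refine congrArg (((ModSite.restrPushOverAdj O U).unit.app Q).val.app (op X)) ?_
  refine Eq.trans ?_ (congrArg (fun a : F ⟶ (jP O).obj Q => a.app (op X) (ModuleCat.freeMk (R := O.obj.obj (op X)) (𝟙 X : X ⟶ X))) hf).symm
  refine Eq.trans ?_ (ModuleCat.freeDesc_apply _ (𝟙 X : X ⟶ X)).symm
  show m = Q.val.map (𝟙 X).op m
  rw [op_id, PresheafOfModules.map_id]
  rfl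

theorem restr_sectOnι_eq_zero (N : ModSite.Mod O) :
    (ModSite.restr O U).map ((ModSite.sectOnι O U).app N) = 0 := by
  haveI : IsSplitMono ((ModSite.restr O U).map ((ModSite.restrPushOverAdj O U).unit.app N)) :=
    IsSplitMono.mk' ⟨_, (ModSite.restrPushOverAdj O U).left_triangle_components N⟩
  rw [← cancel_mono ((ModSite.restr O U).map ((ModSite.restrPushOverAdj O U).unit.app N)), zero_comp,
    ← Functor.map_comp, show (ModSite.sectOnι O U).app N ≫ _ = 0 from kernel.condition _, Functor.map_zero]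

/-- Sections with supports are exact on short exact sequences with totally acyclic first term. -/
theorem epi_sectOn_map {S : ShortComplex (ModSite.Mod O)} (hS : S.ShortExact)
    (h : CohCx.IsTotallyAcyclic (ModSite.toAb S.X₁)) : Epi ((ModSite.sectOn O U).map S.g) := by
  haveI : PreservesFiniteLimits (CohLib.toAbF O) := inferInstance
  have hT := hS.map_of_exact (CohLib.toAbF O)
  let ev : ∀ Y : C, ModSite.Mod O ⥤ AddCommGrpCat.{u} := fun Y =>
    CohLib.toAbF O ⋙ sheafToPresheaf J AddCommGrpCat.{u} ⋙ (evaluation _ AddCommGrpCat.{u}).obj (op Y)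
  haveI : ∀ Y, (ev Y).Additive := fun Y => inferInstance
  have hev : ∀ (T : ShortComplex (ModSite.Mod O)), T.Exact → Mono T.f → ∀ Y, (T.map (ev Y)).Exact ∧ Mono ((ev Y).map T.f) :=
    fun T he hm Y => ((Functor.preservesFiniteLimits_tfae (ev Y)).out 1 3 rfl rfl).mpr inferInstance T ⟨he, hm⟩
  apply (CohLib.toAbF O).epi_of_epi_map
  apply (sheafToPresheaf J AddCommGrpCat.{u}).epi_of_epi_map
  apply (config := { allowSynthFailures := true }) NatTrans.epi_of_epi_app
  intro V
  obtain ⟨X⟩ := V
  refine (AddCommGrpCat.epi_iff_surjective _).2 fun n => ?_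
  let n' := ((ModSite.sectOnι O U).app S.X₃).val.app (op X) n
  have hn' : ∀ (Y : C) (k : Y ⟶ X), Nonempty (Y ⟶ U) → S.X₃.val.map k.op n' = 0 := fun Y k hY =>
    (PresheafOfModules.naturality_apply ((ModSite.sectOnι O U).app S.X₃).val k.op n).symm.trans
      ((CohLib.restr_map_eq_zero_iff U _).1 (restr_sectOnι_eq_zero U S.X₃) (op Y) hY _)
  obtain ⟨m, hm⟩ : ∃ m : S.X₂.val.obj (op X), S.g.val.app (op X) m = n' :=
    surjective_app_of_isTotallyAcyclic hT h X n'
  let Sv : Sieve X := { arrows := fun Y _ => Nonempty (Y ⟶ U), downward_closed := fun ⟨g⟩ a => ⟨a ≫ g⟩ }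
  haveI := hS.mono_f
  have hexS := fun Y => hev S hS.exact inferInstance Y
  have hlift : ∀ (Y : C) (k : Y ⟶ X), Sv.arrows k → ∃ x : (ev Y).obj S.X₁, S.f.val.app (op Y) x = S.X₂.val.map k.op m := by
    intro Y k hk
    refine (ShortComplex.ab_exact_iff _).1 (hexS Y).1 _ ?_
    refine (PresheafOfModules.naturality_apply S.g.val k.op m).trans ?_
    exact (congrArg (S.X₃.val.map k.op) hm).trans (hn' Y k hk)
  choose ν hν using hlift
  have hinj : ∀ Y, Function.Injective (S.f.val.app (op Y)) := fun Y =>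
    (AddCommGrpCat.mono_iff_injective _).1 (hexS Y).2
  obtain ⟨μ, hμ⟩ := exists_amalgamation h Sv ν (fun Y Z a k hk => by
    apply hinj Z
    refine (PresheafOfModules.naturality_apply S.f.val a.op _).trans ?_
    rw [hν Z (a ≫ k)]
    refine (congrArg (S.X₂.val.map a.op) (hν Y k hk)).trans ?_
    exact (PresheafOfModules.map_comp_apply _ k.op a.op m).symm)
  let m' : S.X₂.val.obj (op X) := m - S.f.val.app (op X) μ
  have hm' : ((ModSite.restrPushOverAdj O U).unit.app S.X₂).val.app (op X) m' = 0 := by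
    refine unit_app_eq_zero U m' fun Y k hk => ?_
    refine (map_sub (S.X₂.val.map k.op).hom m _).trans (sub_eq_zero.2 ?_)
    refine (hν Y k hk).symm.trans ?_
    exact (congrArg (S.f.val.app (op Y)) (hμ Y k hk)).symm.trans (PresheafOfModules.naturality_apply S.f.val k.op μ)
  let K : ShortComplex (ModSite.Mod O) := ShortComplex.mk _ _ (kernel.condition ((ModSite.restrPushOverAdj O U).unit.app S.X₂))
  obtain ⟨z, hz⟩ := (ShortComplex.ab_exact_iff _).1
    (hev K (ShortComplex.exact_of_f_is_kernel _ (kernelIsKernel _)) (inferInstanceAs (Mono (kernel.ι _))) X).1 m' hm'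
  refine ⟨z, ?_⟩
  let K₃ : ShortComplex (ModSite.Mod O) := ShortComplex.mk _ _ (kernel.condition ((ModSite.restrPushOverAdj O U).unit.app S.X₃))
  apply (AddCommGrpCat.mono_iff_injective _).1
    (hev K₃ (ShortComplex.exact_of_f_is_kernel _ (kernelIsKernel _)) (inferInstanceAs (Mono (kernel.ι _))) X).2
  show ((ModSite.sectOnι O U).app S.X₃).val.app (op X) (((ModSite.sectOn O U).map S.g).val.app (op X) z) = n'
  refine (congrArg (fun a : (ModSite.sectOn O U).obj S.X₂ ⟶ S.X₃ => a.val.app (op X) z)
    ((ModSite.sectOnι O U).naturality S.g)).trans ?_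
  refine (congrArg (S.g.val.app (op X)) hz).trans ?_
  refine (map_sub (S.g.val.app (op X)).hom m _).trans ?_
  refine (congrArg₂ (· - ·) hm (congrArg (fun a : S.X₁ ⟶ S.X₃ => a.val.app (op X) μ) S.zero)).trans ?_
  exact sub_zero _

variable [HasInjectiveResolutions (ModSite.Mod O)]

theorem isTotallyAcyclic_quotient {S : ShortComplex (ModSite.Mod O)} (hS : S.ShortExact) [Injective S.X₂]
    (h : CohCx.IsTotallyAcyclic (ModSite.toAb S.X₁)) : CohCx.IsTotallyAcyclic (ModSite.toAb S.X₃) := fun L p =>
  haveI : Subsingleton (Ext ((CohLib.Z J).obj L) (S.map (CohLib.toAbF O)).X₂ (p + 1)) :=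
    CohLib.isTotallyAcyclic_toSheaf (ModSite.ringSh O) S.X₂ L p
  haveI : Subsingleton (Ext ((CohLib.Z J).obj L) (S.map (CohLib.toAbF O)).X₁ (p + 1 + 1)) := h L (p + 1)
  CohLib.subsingleton_ext_of_shift' (hS.map_of_exact (CohLib.toAbF O)) (X := (CohLib.Z J).obj L) (n := p + 1)

theorem isZero_HZsh : ∀ (q : ℕ) (G : ModSite.Mod O), CohCx.IsTotallyAcyclic (ModSite.toAb G) →
    IsZero ((ModSite.HZsh O U (q + 1)).obj G) := by
  haveI : PreservesLimitsOfSize.{0, 0} (ModSite.sectOn O U) := (CohLib.quotSectAdj U).rightAdjoint_preservesLimits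
  haveI : PreservesFiniteLimits (ModSite.sectOn O U) := PreservesLimitsOfSize.preservesFiniteLimits _
  intro q
  induction q with
  | zero =>
    intro G hG
    let T : ShortComplex (ModSite.Mod O) :=
      ShortComplex.mk (Injective.ι G) (cokernel.π (Injective.ι G)) (cokernel.condition _)
    have hT : T.ShortExact :=
      { exact := ShortComplex.exact_of_g_is_cokernel _ (cokernelIsCokernel _)
        mono_f := inferInstanceAs (Mono (Injective.ι G))
        epi_g := inferInstanceAs (Epi (cokernel.π (Injective.ι G))) }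
    exact Groth.Agent.RDerLib.isZero_X₁_succ (F := ModSite.sectOn O U) hT 0
      (Functor.isZero_rightDerived_obj_injective_succ _ 0 (Injective.under G))
      ((Groth.Agent.RDerLib.epi_map_g_iff _).2 (epi_sectOn_map U hT hG))
  | succ q ih =>
    intro G hG
    let T : ShortComplex (ModSite.Mod O) :=
      ShortComplex.mk (Injective.ι G) (cokernel.π (Injective.ι G)) (cokernel.condition _)
    have hT : T.ShortExact :=
      { exact := ShortComplex.exact_of_g_is_cokernel _ (cokernelIsCokernel _)
        mono_f := inferInstanceAs (Mono (Injective.ι G))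
        epi_g := inferInstanceAs (Epi (cokernel.π (Injective.ι G))) }
    haveI : Injective T.X₂ := inferInstanceAs (Injective (Injective.under G))
    exact Groth.Agent.RDerLib.isZero_X₁_succ (F := ModSite.sectOn O U) hT (q + 1)
      (Functor.isZero_rightDerived_obj_injective_succ _ (q + 1) (Injective.under G))
      ((ih _ (isTotallyAcyclic_quotient hT hG)).epi _)

omit [HasInjectiveResolutions (ModSite.Mod O)] [ModSite.HasPushOver O U] in
theorem subsingleton_HZ (G : ModSite.Mod O) (hG : CohCx.IsTotallyAcyclic (ModSite.toAb G)) (q : ℕ) :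
    Subsingleton (ModSite.HZ U G (q + 1)) :=
  CohLib.subsingleton_ext_quotZ hG
    (fun i _ x => CohLib.exists_extension_of_isTotallyAcyclic hG i x) (ToposFin.eps J U) q

end HZSubLib
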