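import Groth.Agent.HZSubLib.Acyclic
import Groth.Agent.CohLib.ModSupp
import Groth.Agent.ModSiteLib.SheafHom

/-!
# Sections with supports of an internal hom
-/

set_option autoImplicit false
set_option linter.style.haveILetI false
set_option backward.isDefEq.respectTransparency false

universe u

open CategoryTheory Limits Opposite MonoidalCategory
open ModSiteLib (PMod aP jP adjP)

noncomputable section

namespace HZSubLib

theorem homEquiv_symm_eq_zero_iff {A B : Type*} [Category* A] [Category* B] [Preadditive A] [Preadditive B]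
    {L : A ⥤ B} {R : B ⥤ A} (adj : L ⊣ R) [L.Additive] {X : A} {Y : B} (a : X ⟶ R.obj Y) :
    (adj.homEquiv X Y).symm a = 0 ↔ a = 0 := by
  have h0 : (adj.homEquiv X Y).symm 0 = 0 := by simp [Adjunction.homEquiv_counit]
  exact ⟨fun h => (adj.homEquiv X Y).symm.injective (h.trans h0.symm), fun h => by rw [h, h0]⟩

variable {C : Type u} [SmallCategory C] {J : GrothendieckTopology C} {O : Sheaf J CommRingCat.{u}} (U : C)
  {G M R : ModSite.Mod O}

/-- A map out of a tensor product vanishes on `U` iff it kills the pure tensors there. -/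
theorem restr_map_eq_zero_iff_vanishOn (ψ : ((ModSite.tensorBi O).obj G).obj M ⟶ R) :
    (ModSite.restr O U).map ψ = 0 ↔ CohLib.VanishOn U (CohLib.tensorAdjunct ψ) := by
  rw [CohLib.restr_map_eq_zero_iff]
  refine ⟨fun h X hX g m => ?_, fun h Y hY s => ?_⟩
  · exact h X hX _
  · obtain ⟨g⟩ := hY
    let F : PMod O := (jP O).obj G ⊗ (jP O).obj M
    have hW := ModSiteLib.W_unit O F
    rw [GrothendieckTopology.W_iff_isLocallyBijective] at hW
    haveI := hW.2
    have hS := Presheaf.imageSieve_mem J ((PresheafOfModules.toPresheaf _).map ((adjP O).unit.app F)) (U := Y) s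
    refine Presheaf.IsSheaf.isSeparated R.isSheaf (unop Y) _ hS _ _ fun Z b ⟨t, ht⟩ => ?_
    refine Eq.trans ?_ (map_zero (R.val.presheaf.map b.op).hom).symm
    refine (PresheafOfModules.naturality_apply ψ.val b.op s).symm.trans ?_
    refine (congrArg (ψ.val.app (op Z)) ht).symm.trans ?_
    show (CohLib.tensorAdjunct ψ).app (op Z) t = 0
    have hz : (CohLib.tensorAdjunct ψ).app (op Z) = 0 :=
      ModuleCat.MonoidalCategory.tensor_ext fun x y => h (op Z) ⟨b ≫ g⟩ x y
    rw [hz]
    rfl

variable [ModSite.HasPushOver O U] [ModSite.HasSheafHom M]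

/-- Auxiliary: transporting along the counit. -/
theorem counit_comp_eq_zero_iff_tensor (φ : G ⟶ (ModSite.sheafHom M).obj R)
    (ψ : ((ModSite.tensorBi O).obj G).obj M ⟶ R) (hψ : ((ModSite.sheafHomAdj M).homEquiv G R).symm φ = ψ) :
    (ModSite.extZeroAdj O U).counit.app G ≫ φ = 0 ↔
      ((ModSite.tensorBi O).flip.obj M).map ((ModSite.extZeroAdj O U).counit.app G) ≫ ψ = 0 := by
  haveI : ((ModSite.tensorBi O).flip.obj M).Additive := (ModSite.sheafHomAdj M).left_adjoint_additive
  subst hψ
  refine (homEquiv_symm_eq_zero_iff (ModSite.sheafHomAdj M) _).symm.trans ?_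
  rw [Adjunction.homEquiv_naturality_left_symm]
  exact Iff.rfl

set_option maxHeartbeats 1600000 in
/-- Vanishing on `U` does not depend on the side of the adjunction. -/
theorem comp_unit_eq_zero_iff (φ : G ⟶ (ModSite.sheafHom M).obj R) :
    φ ≫ (ModSite.restrPushOverAdj O U).unit.app _ = 0 ↔
      (((ModSite.sheafHomAdj M).homEquiv G R).symm φ) ≫ (ModSite.restrPushOverAdj O U).unit.app R = 0 := by
  generalize hψ : ((ModSite.sheafHomAdj M).homEquiv G R).symm φ = ψ
  have e1 := counit_comp_eq_zero_iff_tensor U φ ψ hψ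
  have e2 := CohLib.tensor_map_counit_eq_zero_iff U ψ
  have e3 := restr_map_eq_zero_iff_vanishOn U ψ
  have e4 := ExtSupp.mem_homZ_iff U ψ
  have e5 := CohLib.counit_comp_zero_iff_unit U ψ
  have e0 := CohLib.counit_comp_zero_iff_unit U φ
  exact e0.symm.trans (e1.trans (e2.trans (e3.symm.trans (e4.trans e5))))

variable (M)

instance mono_sectOnι' (N : ModSite.Mod O) : Mono ((ModSite.sectOnι O U).app N) := equalizer.ι_mono

instance mono_sheafHom_map {N N' : ModSite.Mod O} (f : N ⟶ N') [Mono f] : Mono ((ModSite.sheafHom M).map f) := by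
  haveI : (ModSite.sheafHom M).PreservesMonomorphisms :=
    Functor.preservesMonomorphisms_of_adjunction (ModSite.sheafHomAdj M)
  infer_instance

theorem exists_toSectHom (N : ModSite.Mod O) :
    ∃ g : (ModSite.sheafHom M ⋙ ModSite.sectOn O U).obj N ⟶ (ModSite.sectOn O U ⋙ ModSite.sheafHom M).obj N,
      g ≫ (ModSite.sheafHom M).map ((ModSite.sectOnι O U).app N) = (ModSite.sectOnι O U).app ((ModSite.sheafHom M).obj N) := by
  have h := (comp_unit_eq_zero_iff U ((ModSite.sectOnι O U).app ((ModSite.sheafHom M).obj N))).1 (kernel.condition _)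
  refine ⟨(ModSite.sheafHomAdj M).homEquiv _ _ (kernel.lift _ _ h), ?_⟩
  rw [← Adjunction.homEquiv_naturality_right]
  exact (congrArg _ (kernel.lift_ι _ _ h)).trans (Equiv.apply_symm_apply _ _)

theorem exists_ofSectHom (N : ModSite.Mod O) :
    ∃ g : (ModSite.sectOn O U ⋙ ModSite.sheafHom M).obj N ⟶ (ModSite.sheafHom M ⋙ ModSite.sectOn O U).obj N,
      g ≫ (ModSite.sectOnι O U).app ((ModSite.sheafHom M).obj N) = (ModSite.sheafHom M).map ((ModSite.sectOnι O U).app N) := by
  have h : (ModSite.sheafHom M).map ((ModSite.sectOnι O U).app N) ≫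
      (ModSite.restrPushOverAdj O U).unit.app ((ModSite.sheafHom M).obj N) = 0 := by
    refine (comp_unit_eq_zero_iff U _).2 ?_
    rw [Adjunction.homEquiv_counit, Adjunction.counit_naturality, Category.assoc]
    exact (congrArg (_ ≫ ·) (kernel.condition _)).trans comp_zero
  exact ⟨kernel.lift _ _ h, kernel.lift_ι _ _ h⟩

/-- The comparison map. -/
def toSectHom (N : ModSite.Mod O) :
    (ModSite.sectOn O U).obj ((ModSite.sheafHom M).obj N) ⟶ (ModSite.sheafHom M).obj ((ModSite.sectOn O U).obj N) :=
  (exists_toSectHom U M N).choose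

theorem toSectHom_spec (N : ModSite.Mod O) :
    toSectHom U M N ≫ (ModSite.sheafHom M).map ((ModSite.sectOnι O U).app N) =
      (ModSite.sectOnι O U).app ((ModSite.sheafHom M).obj N) :=
  (exists_toSectHom U M N).choose_spec

theorem isIso_toSectHom (N : ModSite.Mod O) : IsIso (toSectHom U M N) := by
  obtain ⟨g, hg⟩ := exists_ofSectHom U M N
  replace hg : (show (ModSite.sheafHom M).obj ((ModSite.sectOn O U).obj N) ⟶
      (ModSite.sectOn O U).obj ((ModSite.sheafHom M).obj N) from g) ≫
        (ModSite.sectOnι O U).app ((ModSite.sheafHom M).obj N) =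
      (ModSite.sheafHom M).map ((ModSite.sectOnι O U).app N) := hg
  refine ⟨g, ?_, ?_⟩
  · apply (cancel_mono ((ModSite.sectOnι O U).app ((ModSite.sheafHom M).obj N))).1
    exact ((Category.assoc _ _ _).trans ((congrArg (toSectHom U M N ≫ ·) hg).trans (toSectHom_spec U M N))).trans
      (Category.id_comp _).symm
  · apply (cancel_mono ((ModSite.sheafHom M).map ((ModSite.sectOnι O U).app N))).1
    exact ((Category.assoc _ _ _).trans ((congrArg (_ ≫ ·) (toSectHom_spec U M N)).trans hg)).trans
      (Category.id_comp _).symm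

theorem toSectHom_naturality {N N' : ModSite.Mod O} (f : N ⟶ N') :
    (ModSite.sectOn O U).map ((ModSite.sheafHom M).map f) ≫ toSectHom U M N' =
      toSectHom U M N ≫ (ModSite.sheafHom M).map ((ModSite.sectOn O U).map f) := by
  have h1 := (ModSite.sectOnι O U).naturality f
  have h2 := (ModSite.sectOnι O U).naturality ((ModSite.sheafHom M).map f)
  simp only [Functor.id_map] at h1 h2
  rw [← cancel_mono ((ModSite.sheafHom M).map ((ModSite.sectOnι O U).app N')), Category.assoc, Category.assoc,
    toSectHom_spec, h2, ← (ModSite.sheafHom M).map_comp, h1, (ModSite.sheafHom M).map_comp]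
  exact (congrArg (· ≫ (ModSite.sheafHom M).map f) (toSectHom_spec U M N).symm).trans (Category.assoc _ _ _)

/-- `Γ_Z ℋom(M, -) ≅ ℋom(M, Γ_Z -)`. -/
def sheafHomSectOnIso : ModSite.sheafHom M ⋙ ModSite.sectOn O U ≅ ModSite.sectOn O U ⋙ ModSite.sheafHom M :=
  haveI := isIso_toSectHom U M
  NatIso.ofComponents (fun N => asIso (toSectHom U M N)) (fun f => toSectHom_naturality U M f)

end HZSubLib
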