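import Groth.Agent.ModSiteLib.ExtZero
import Groth.Agent.LocSuppLib.General
import Groth.Agent.CohLib.ModNull

/-!
# Local cohomology with supports in the complement of a subterminal object
-/

set_option autoImplicit false
set_option linter.style.haveILetI false
set_option backward.isDefEq.respectTransparency false

universe u

open CategoryTheory Limits Opposite
open ModSiteLib (PMod aP jP adjP oLan oRes oLanAdj)

namespace HZSubLib

variable {C : Type u} [SmallCategory C] {J : GrothendieckTopology C} (O : Sheaf J CommRingCat.{u}) (U : C)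

theorem mono_oLan_counit (hU : ∀ V : C, Subsingleton (V ⟶ U)) (P : PMod O) :
    Mono ((oLanAdj O U).counit.app P) := by
  refine PresheafOfModules.mono_of_injective fun V => ?_
  haveI := hU V.unop
  let M := (oRes O U).obj P
  have h : ∀ g : V.unop ⟶ U, Sigma.ι (ModSiteLib.mfib M V) g ≫ ((oLanAdj O U).counit.app P).app V = 𝟙 _ := fun g => by
    exact Sigma.ι_desc _ g
  apply (ModuleCat.mono_iff_injective _).1
  rcases isEmpty_or_nonempty (V.unop ⟶ U) with he | ⟨⟨g⟩⟩
  · have hz : IsZero (∐ ModSiteLib.mfib M V) :=
      (IsZero.iff_id_eq_zero _).2 (Sigma.hom_ext _ _ fun g => isEmptyElim g)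
    exact ⟨fun _ _ _ => hz.eq_of_tgt _ _⟩
  · have e : ((oLanAdj O U).counit.app P).app V ≫ Sigma.ι (ModSiteLib.mfib M V) g = 𝟙 (∐ ModSiteLib.mfib M V) :=
      Sigma.hom_ext _ _ fun g' => by
        obtain rfl : g' = g := Subsingleton.elim _ _
        exact ((Category.assoc _ _ _).symm.trans ((congrArg (· ≫ _) (h g')).trans (Category.id_comp _))).trans
          (Category.comp_id _).symm
    haveI : IsSplitMono (((oLanAdj O U).counit.app P).app V) := IsSplitMono.mk' ⟨_, e⟩
    infer_instance

/-- Morphisms between restrictions extend when the target is injective. -/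
theorem exists_restr_map_eq (hU : ∀ V : C, Subsingleton (V ⟶ U)) {G I : ModSite.Mod O} [Injective I]
    (φ : (ModSite.restr O U).obj G ⟶ (ModSite.restr O U).obj I) :
    ∃ s : G ⟶ I, (ModSite.restr O U).map s = φ := by
  haveI : PreservesFiniteLimits (aP O) :=
    inferInstanceAs (PreservesFiniteLimits (ModSite.sheafify O))
  haveI : Injective ((jP O).obj I) := Injective.injective_of_adjoint (adjP O) I
  haveI := mono_oLan_counit O U hU ((jP O).obj G)
  let ψ : (oRes O U).obj ((jP O).obj G) ⟶ (oRes O U).obj ((jP O).obj I) :=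
    (ModSiteLib.restrPreIso O U).inv.app G ≫ (jP (O.over U)).map φ ≫ (ModSiteLib.restrPreIso O U).hom.app I
  let t : (jP O).obj G ⟶ (jP O).obj I :=
    Injective.factorThru (((oLanAdj O U).homEquiv _ _).symm ψ) ((oLanAdj O U).counit.app _)
  have ht : (oRes O U).map t = ψ := by
    have h1 := congrArg ((oLanAdj O U).homEquiv _ _) (Injective.comp_factorThru
      (((oLanAdj O U).homEquiv _ _).symm ψ) ((oLanAdj O U).counit.app ((jP O).obj G)))
    rw [Equiv.apply_symm_apply, Adjunction.homEquiv_naturality_right] at h1
    refine Eq.trans ?_ h1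
    simp [Adjunction.homEquiv_unit]
    rfl
  refine ⟨⟨t⟩, ?_⟩
  apply SheafOfModules.hom_ext
  ext W : 1
  exact congrArg (fun a : (oRes O U).obj ((jP O).obj G) ⟶ (oRes O U).obj ((jP O).obj I) => a.app W) ht

variable [ModSite.HasPushOver O U]

theorem epi_unit_injective (hU : ∀ V : C, Subsingleton (V ⟶ U)) (I : ModSite.Mod O) [Injective I] :
    Epi ((ModSite.restrPushOverAdj O U).unit.app I) := by
  obtain ⟨s, hs⟩ := exists_restr_map_eq O U hU
    ((ModSite.restrPushOverAdj O U).counit.app ((ModSite.restr O U).obj I))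
  haveI : IsSplitEpi ((ModSite.restrPushOverAdj O U).unit.app I) := IsSplitEpi.mk' ⟨s, by
    refine ((ModSite.restrPushOverAdj O U).unit.naturality s).trans ?_
    refine (congrArg (fun a => (ModSite.restrPushOverAdj O U).unit.app _ ≫ (ModSite.pushOver O U).map a) hs).trans ?_
    exact (ModSite.restrPushOverAdj O U).right_triangle_components _⟩
  infer_instance

theorem main (hU : ∀ V : C, Subsingleton (V ⟶ U)) [(ModSite.pushOver O U).Additive]
    [HasInjectiveResolutions (ModSite.Mod O)] [HasInjectiveResolutions (ModSite.Mod (O.over U))] :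
    Nonempty (ModSite.HZsh O U 1 ≅ cokernel (ModSite.restrPushOverAdj O U).unit) ∧
      ∀ q : ℕ, 1 ≤ q →
        Nonempty (ModSite.HZsh O U (q + 1) ≅ ModSite.restr O U ⋙ (ModSite.pushOver O U).rightDerived q) := by
  haveI : PreservesLimitsOfSize.{0, 0} (ModSite.pushOver O U) :=
    (ModSite.restrPushOverAdj O U).rightAdjoint_preservesLimits
  haveI : PreservesFiniteLimits (ModSite.pushOver O U) := PreservesLimitsOfSize.preservesFiniteLimits _
  haveI : PreservesLimitsOfSize.{0, 0} (ModSite.restr O U) := (ModSite.extZeroAdj O U).rightAdjoint_preservesLimits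
  haveI : PreservesFiniteLimits (ModSite.restr O U) := PreservesLimitsOfSize.preservesFiniteLimits _
  haveI : PreservesColimitsOfSize.{0, 0} (ModSite.restr O U) :=
    (ModSite.restrPushOverAdj O U).leftAdjoint_preservesColimits
  haveI : PreservesFiniteColimits (ModSite.restr O U) := PreservesColimitsOfSize.preservesFiniteColimits _
  haveI : (ModSite.restr O U).PreservesHomology := Functor.preservesHomologyOfExact _
  haveI := ModSiteLib.preservesMonomorphisms_extZero O U
  haveI : (ModSite.restr O U).PreservesInjectiveObjects :=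
    Functor.preservesInjectiveObjects_of_adjunction_of_preservesMonomorphisms (ModSite.extZeroAdj O U)
  have w : ModSite.sectOnι O U ≫ (ModSite.restrPushOverAdj O U).unit = 0 :=
    NatTrans.ext (funext fun F => kernel.condition _)
  have h : ∀ I : ModSite.Mod O, Injective I → (ShortComplex.mk ((ModSite.sectOnι O U).app I)
      ((ModSite.restrPushOverAdj O U).unit.app I) (congr_app w I)).ShortExact := fun I hI =>
    { exact := ShortComplex.exact_of_f_is_kernel _ (kernelIsKernel _)
      mono_f := equalizer.ι_mono
      epi_g := @epi_unit_injective _ _ _ O U _ hU I hI }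
  refine ⟨LocSuppLib.nonempty_firstIso (ModSite.sectOnι O U) (ModSite.restrPushOverAdj O U).unit w h, fun q hq => ?_⟩
  exact ⟨LocSuppLib.shiftIso (ModSite.sectOnι O U) (ModSite.restrPushOverAdj O U).unit w h q hq ≪≫
    LocSuppLib.compIso (ModSite.restr O U) (ModSite.pushOver O U) q⟩

end HZSubLib
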