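import Groth.Agent.CohLib.ModSupp
import Groth.Agent.LocSuppLib.ExtNat
import Groth.Agent.ModSiteLib.FlatLocal
import Groth.Agent.ModSiteLib.SheafHom
import Groth.Agent.RightDerCompLib.Basic
import Groth.Prelude.Def_ExtSupp

/-!
# Ext with supports as a derived functor
-/

set_option autoImplicit false
set_option linter.style.haveILetI false
set_option backward.isDefEq.respectTransparency false

universe u

open CategoryTheory Limits Opposite

noncomputable section

namespace HZSubLib

variable {C : Type u} [SmallCategory C] {J : GrothendieckTopology C} {O : Sheaf J CommRingCat.{u}}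
  (U : C) [ModSite.HasPushOver O U] (M : ModSite.Mod O) [ModSite.HasSheafHom M]

/-- `unit/unit_U ⊗ M ≅ M/M_U`. -/
def quotUnitTensorIso :
    ((ModSite.tensorBi O).flip.obj M).obj ((ModSite.quotOn O U).obj (ModSite.unit O)) ≅ (ModSite.quotOn O U).obj M :=
  (CohLib.quotTensorIso U M).app (ModSite.unit O) ≪≫ ModSiteLib.unitTensorIso ((ModSite.quotOn O U).obj M)

/-- Global sections with supports of the internal hom. -/
def gammaZHomEquiv (N : ModSite.Mod O) :
    (ExtSupp.gammaZHom U M).obj N ≃+ ((ModSite.quotOn O U).obj M ⟶ N) :=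
  haveI : (ModSite.quotOn O U).Additive := (CohLib.quotSectAdj U).left_adjoint_additive
  haveI : ((ModSite.tensorBi O).flip.obj M).Additive := (ModSiteLib.sheafHomAdj' M).left_adjoint_additive
  (((CohLib.quotSectAdj U).homAddEquiv (ModSite.unit O) ((ModSite.sheafHom M).obj N)).symm.trans
    ((ModSiteLib.sheafHomAdj' M).homAddEquiv _ N).symm).trans
      (ModSiteLib.precompAddEquiv (quotUnitTensorIso U M).symm N)

theorem gammaZHomEquiv_naturality {N N' : ModSite.Mod O} (g : N ⟶ N') (x : (ExtSupp.gammaZHom U M).obj N) :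
    gammaZHomEquiv U M N' ((ExtSupp.gammaZHom U M).map g x) = gammaZHomEquiv U M N x ≫ g := by
  change (quotUnitTensorIso U M).inv ≫ ((ModSiteLib.sheafHomAdj' M).homEquiv _ N').symm
      (((CohLib.quotSectAdj U).homEquiv _ _).symm (x ≫ (ModSite.sectOn O U).map ((ModSite.sheafHom M).map g))) =
    ((quotUnitTensorIso U M).inv ≫ ((ModSiteLib.sheafHomAdj' M).homEquiv _ N).symm
      (((CohLib.quotSectAdj U).homEquiv _ _).symm x)) ≫ g
  rw [Adjunction.homEquiv_naturality_right_symm, Adjunction.homEquiv_naturality_right_symm, Category.assoc]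

variable [HasExt.{u} (ModSite.Mod O)] [HasInjectiveResolutions (ModSite.Mod O)]

theorem nonempty_extZR_iso (q : ℕ) :
    Nonempty (ExtSupp.ExtZR U M q ≅ Abelian.extFunctorObj ((ModSite.quotOn O U).obj M) q) := by
  let Z : Discrete PUnit.{u + 1} ⥤ ModSite.Mod O := Discrete.functor fun _ => (ModSite.quotOn O U).obj M
  let V : (Discrete PUnit.{u + 1})ᵒᵖ := op ⟨PUnit.unit⟩
  let e : ExtSupp.gammaZHom U M ≅
      LocSuppLib.homPre Z ⋙ (evaluation (Discrete PUnit.{u + 1})ᵒᵖ AddCommGrpCat.{u}).obj V :=
    NatIso.ofComponents (fun N => (gammaZHomEquiv U M N).toAddCommGrpIso) (fun g => by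
      ext x
      exact gammaZHomEquiv_naturality U M g x)
  exact ⟨Groth.Agent.RightDerCompLib.rightDerivedCongr e q ≪≫ LocSuppLib.rightDerivedHomIso Z V q⟩

end HZSubLib
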