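import Groth.Agent.HZSubLib.Acyclic
import Groth.Agent.RightDerCompLib.Basic

/-!
# Local cohomology sheaves and localisation
-/

set_option autoImplicit false
set_option linter.style.haveILetI false
set_option backward.isDefEq.respectTransparency false

universe u

open CategoryTheory Limits Opposite

noncomputable section

namespace HZSubLib

variable {C : Type u} [SmallCategory C] {J : GrothendieckTopology C} (O : Sheaf J CommRingCat.{u})
  [HasBinaryProducts C] (U X : C)
  [ModSite.HasPushOver (O.over X) (Over.mk (Limits.prod.snd : U ⨯ X ⟶ X))]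

local notation "UX" => Over.mk (Limits.prod.snd : U ⨯ X ⟶ X)

instance mono_sectOnι (M : ModSite.Mod O) : Mono ((ModSite.sectOnι O U).app M) := equalizer.ι_mono

instance mono_sectOnι_over (N : ModSite.Mod (O.over X)) : Mono ((ModSite.sectOnι (O.over X) UX).app N) :=
  equalizer.ι_mono

theorem restr_sectOnι_comp_unit (M : ModSite.Mod O) :
    (ModSite.restr O X).map ((ModSite.sectOnι O U).app M) ≫
      (ModSite.restrPushOverAdj (O.over X) UX).unit.app ((ModSite.restr O X).obj M) = 0 := by
  refine (CohLib.counit_comp_zero_iff_unit UX _).1 ((ExtSupp.mem_homZ_iff UX _).1 ?_)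
  refine (CohLib.restr_map_eq_zero_iff UX _).2 fun W hW m => ?_
  obtain ⟨g⟩ := hW
  exact (CohLib.restr_map_eq_zero_iff U _).1 (restr_sectOnι_eq_zero U M) (op W.unop.left)
    ⟨g.left ≫ Limits.prod.fst⟩ m

theorem sectOnι_comp_restr_unit (M : ModSite.Mod O) :
    (ModSite.sectOnι (O.over X) UX).app ((ModSite.restr O X).obj M) ≫
      (ModSite.restr O X).map ((ModSite.restrPushOverAdj O U).unit.app M) = 0 := by
  apply SheafOfModules.hom_ext
  ext W m
  let ι' := (ModSite.sectOnι (O.over X) UX).app ((ModSite.restr O X).obj M)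
  refine unit_app_eq_zero U (Q := M) (X := W.unop.left) (ι'.val.app W m) fun Y k hY => ?_
  obtain ⟨g⟩ := hY
  exact (PresheafOfModules.naturality_apply ι'.val
      (Over.homMk k rfl : Over.mk (k ≫ W.unop.hom) ⟶ W.unop).op m).symm.trans
    ((CohLib.restr_map_eq_zero_iff UX _).1 (restr_sectOnι_eq_zero UX ((ModSite.restr O X).obj M))
      (op (Over.mk (k ≫ W.unop.hom))) ⟨Over.homMk (Limits.prod.lift g (k ≫ W.unop.hom)) (Limits.prod.lift_snd _ _)⟩ _)

instance preservesFiniteLimits_restr : PreservesFiniteLimits (ModSite.restr O X) :=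
  haveI : PreservesLimitsOfSize.{0, 0} (ModSite.restr O X) := (ModSite.extZeroAdj O X).rightAdjoint_preservesLimits
  PreservesLimitsOfSize.preservesFiniteLimits _

/-- One direction of the comparison. -/
def toSectOver (M : ModSite.Mod O) :
    (ModSite.restr O X).obj ((ModSite.sectOn O U).obj M) ⟶
      (ModSite.sectOn (O.over X) UX).obj ((ModSite.restr O X).obj M) :=
  kernel.lift _ ((ModSite.restr O X).map ((ModSite.sectOnι O U).app M)) (restr_sectOnι_comp_unit O U X M)

@[reassoc]
theorem toSectOver_ι (M : ModSite.Mod O) :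
    toSectOver O U X M ≫ (ModSite.sectOnι (O.over X) UX).app ((ModSite.restr O X).obj M) =
      (ModSite.restr O X).map ((ModSite.sectOnι O U).app M) :=
  kernel.lift_ι _ _ _

instance preservesHomology_restr : (ModSite.restr O X).PreservesHomology :=
  haveI : PreservesColimitsOfSize.{0, 0} (ModSite.restr O X) :=
    (ModSite.restrPushOverAdj O X).leftAdjoint_preservesColimits
  haveI : PreservesFiniteColimits (ModSite.restr O X) := PreservesColimitsOfSize.preservesFiniteColimits _
  Functor.preservesHomologyOfExact _

theorem isIso_toSectOver (M : ModSite.Mod O) : IsIso (toSectOver O U X M) := by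
  let R := ModSite.restr O X
  haveI : Mono (R.map ((ModSite.sectOnι O U).app M)) := inferInstance
  let S := ShortComplex.mk ((ModSite.sectOnι O U).app M) ((ModSite.restrPushOverAdj O U).unit.app M) (kernel.condition _)
  have h : (S.map R).Exact := (ShortComplex.exact_of_f_is_kernel S (kernelIsKernel _)).map _
  haveI : Mono (S.map R).f := inferInstanceAs (Mono (R.map ((ModSite.sectOnι O U).app M)))
  obtain ⟨g, hg⟩ : ∃ g, g ≫ R.map ((ModSite.sectOnι O U).app M) =
      (ModSite.sectOnι (O.over X) UX).app (R.obj M) :=
    ⟨h.lift _ (sectOnι_comp_restr_unit O U X M), h.lift_f _ _⟩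
  refine ⟨g, ?_, ?_⟩
  · rw [← cancel_mono (R.map ((ModSite.sectOnι O U).app M)), Category.assoc, hg, toSectOver_ι, Category.id_comp]
  · rw [← cancel_mono ((ModSite.sectOnι (O.over X) UX).app (R.obj M)), Category.assoc, toSectOver_ι, hg,
      Category.id_comp]

theorem toSectOver_naturality {M N : ModSite.Mod O} (f : M ⟶ N) :
    (ModSite.restr O X).map ((ModSite.sectOn O U).map f) ≫ toSectOver O U X N =
      toSectOver O U X M ≫ (ModSite.sectOn (O.over X) UX).map ((ModSite.restr O X).map f) := by
  have h1 := (ModSite.sectOnι O U).naturality f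
  have h2 := (ModSite.sectOnι (O.over X) UX).naturality ((ModSite.restr O X).map f)
  simp only [Functor.id_map] at h1 h2
  rw [← cancel_mono ((ModSite.sectOnι (O.over X) UX).app ((ModSite.restr O X).obj N)), Category.assoc, Category.assoc,
    toSectOver_ι, h2, toSectOver_ι_assoc, ← Functor.map_comp, h1, Functor.map_comp]

/-- Sections with supports commute with localisation. -/
def sectOnRestrIso : ModSite.sectOn O U ⋙ ModSite.restr O X ≅
    ModSite.restr O X ⋙ ModSite.sectOn (O.over X) UX :=
  haveI := isIso_toSectOver O U X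
  NatIso.ofComponents (fun M => asIso (toSectOver O U X M)) (fun f => toSectOver_naturality O U X f)

variable [HasInjectiveResolutions (ModSite.Mod O)] [HasInjectiveResolutions (ModSite.Mod (O.over X))]

theorem nonempty_HZsh_restr_iso (q : ℕ) :
    Nonempty (ModSite.HZsh O U q ⋙ ModSite.restr O X ≅
      ModSite.restr O X ⋙ ModSite.HZsh (O.over X) UX q) := by
  haveI := ModSiteLib.preservesMonomorphisms_extZero O X
  haveI : (ModSite.restr O X).PreservesInjectiveObjects :=
    Functor.preservesInjectiveObjects_of_adjunction_of_preservesMonomorphisms (ModSite.extZeroAdj O X)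
  exact ⟨(Groth.Agent.RightDerCompLib.rightDerivedCompExact (ModSite.sectOn O U) (ModSite.restr O X) q).symm ≪≫
    Groth.Agent.RightDerCompLib.rightDerivedCongr (sectOnRestrIso O U X) q ≪≫
    Groth.Agent.RightDerCompLib.rightDerivedExactComp (ModSite.restr O X) (ModSite.sectOn (O.over X) UX) q⟩

end HZSubLib
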