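import Groth.Agent.HZSubLib.Acyclic
import Groth.Agent.AcycCompLib.Basic
import Groth.Agent.RightDerCompLib.Basic

/-!
# Local cohomology sheaves and restriction of scalars
-/

set_option autoImplicit false
set_option linter.style.haveILetI false
set_option backward.isDefEq.respectTransparency false

universe u

open CategoryTheory Limits Opposite

attribute [local instance] HasDerivedCategory.standard

noncomputable section

namespace HZSubLib

variable {C : Type u} [SmallCategory C] {J : GrothendieckTopology C} {O O' : Sheaf J CommRingCat.{u}}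
  (φ : O ⟶ O') (U : C)

/-- Restriction of scalars. -/
abbrev rho : ModSite.Mod O' ⥤ ModSite.Mod O :=
  SheafOfModules.restrictScalars ((sheafCompose J (forget₂ CommRingCat.{u} RingCat.{u})).map φ)

/-- Restriction of scalars does not change the abelian sheaf. -/
def rhoToAb : rho φ ⋙ CohLib.toAbF O ≅ CohLib.toAbF O' := Iso.refl _

instance additive_rho : (rho φ).Additive := ⟨fun {_ _ _ _} => rfl⟩

instance preservesFiniteLimits_rho : PreservesFiniteLimits (rho φ) :=
  haveI : PreservesFiniteLimits (rho φ ⋙ CohLib.toAbF O) := preservesFiniteLimits_of_natIso (rhoToAb φ).symm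
  preservesFiniteLimits_of_reflects_of_preserves _ (CohLib.toAbF O)

instance preservesFiniteColimits_rho : PreservesFiniteColimits (rho φ) :=
  haveI : PreservesFiniteColimits (rho φ ⋙ CohLib.toAbF O) := preservesFiniteColimits_of_natIso (rhoToAb φ).symm
  preservesFiniteColimits_of_reflects_of_preserves _ (CohLib.toAbF O)

instance preservesHomology_rho : (rho φ).PreservesHomology := Functor.preservesHomologyOfExact _

variable [ModSite.HasPushOver O U] [ModSite.HasPushOver O' U]

theorem rho_sectOnι_comp_unit (M : ModSite.Mod O') :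
    (rho φ).map ((ModSite.sectOnι O' U).app M) ≫ (ModSite.restrPushOverAdj O U).unit.app ((rho φ).obj M) = 0 := by
  refine (CohLib.counit_comp_zero_iff_unit U _).1 ((ExtSupp.mem_homZ_iff U _).1 ?_)
  refine (CohLib.restr_map_eq_zero_iff U _).2 fun X hX m => ?_
  exact (CohLib.restr_map_eq_zero_iff U _).1 (restr_sectOnι_eq_zero U M) X hX m

theorem sectOnι_comp_rho_unit (M : ModSite.Mod O') :
    (ModSite.sectOnι O U).app ((rho φ).obj M) ≫ (rho φ).map ((ModSite.restrPushOverAdj O' U).unit.app M) = 0 := by
  apply SheafOfModules.hom_ext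
  ext X m
  refine unit_app_eq_zero U (Q := M) (X := X.unop) (((ModSite.sectOnι O U).app ((rho φ).obj M)).val.app X m)
    fun Y k hY => ?_
  exact (PresheafOfModules.naturality_apply ((ModSite.sectOnι O U).app ((rho φ).obj M)).val k.op m).symm.trans
    ((CohLib.restr_map_eq_zero_iff U _).1 (restr_sectOnι_eq_zero U ((rho φ).obj M)) (op Y) hY _)

instance mono_sectOnι_app (O : Sheaf J CommRingCat.{u}) [ModSite.HasPushOver O U] (M : ModSite.Mod O) :
    Mono ((ModSite.sectOnι O U).app M) := equalizer.ι_mono

/-- One direction of the comparison. -/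
def toSect (M : ModSite.Mod O') :
    (rho φ).obj ((ModSite.sectOn O' U).obj M) ⟶ (ModSite.sectOn O U).obj ((rho φ).obj M) :=
  kernel.lift _ ((rho φ).map ((ModSite.sectOnι O' U).app M)) (rho_sectOnι_comp_unit φ U M)

@[reassoc]
theorem toSect_ι (M : ModSite.Mod O') : toSect φ U M ≫ (ModSite.sectOnι O U).app ((rho φ).obj M) =
    (rho φ).map ((ModSite.sectOnι O' U).app M) :=
  kernel.lift_ι _ _ _

theorem exists_ofSect (M : ModSite.Mod O') :
    ∃ g : (ModSite.sectOn O U).obj ((rho φ).obj M) ⟶ (rho φ).obj ((ModSite.sectOn O' U).obj M),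
      g ≫ (rho φ).map ((ModSite.sectOnι O' U).app M) = (ModSite.sectOnι O U).app ((rho φ).obj M) := by
  haveI : Mono ((rho φ).map ((ModSite.sectOnι O' U).app M)) := inferInstance
  let S := ShortComplex.mk ((ModSite.sectOnι O' U).app M) ((ModSite.restrPushOverAdj O' U).unit.app M)
    (kernel.condition _)
  have h : (S.map (rho φ)).Exact := (ShortComplex.exact_of_f_is_kernel S (kernelIsKernel _)).map _
  haveI : Mono (S.map (rho φ)).f := inferInstanceAs (Mono ((rho φ).map ((ModSite.sectOnι O' U).app M)))
  exact ⟨h.lift _ (sectOnι_comp_rho_unit φ U M), h.lift_f _ _⟩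

theorem isIso_toSect (M : ModSite.Mod O') : IsIso (toSect φ U M) := by
  obtain ⟨g, hg⟩ := exists_ofSect φ U M
  refine ⟨g, ?_, ?_⟩
  · rw [← cancel_mono ((rho φ).map ((ModSite.sectOnι O' U).app M)), Category.assoc, hg, toSect_ι, Category.id_comp]
  · rw [← cancel_mono ((ModSite.sectOnι O U).app ((rho φ).obj M)), Category.assoc, toSect_ι, hg, Category.id_comp]

theorem toSect_naturality {M N : ModSite.Mod O'} (f : M ⟶ N) :
    (rho φ).map ((ModSite.sectOn O' U).map f) ≫ toSect φ U N =
      toSect φ U M ≫ (ModSite.sectOn O U).map ((rho φ).map f) := by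
  have h1 := (ModSite.sectOnι O' U).naturality f
  have h2 := (ModSite.sectOnι O U).naturality ((rho φ).map f)
  simp only [Functor.id_map] at h1 h2
  rw [← cancel_mono ((ModSite.sectOnι O U).app ((rho φ).obj N)), Category.assoc, Category.assoc, toSect_ι, h2,
    toSect_ι_assoc, ← (rho φ).map_comp, h1, (rho φ).map_comp]

/-- Sections with supports commute with restriction of scalars. -/
def sectOnRhoIso : ModSite.sectOn O' U ⋙ rho φ ≅ rho φ ⋙ ModSite.sectOn O U :=
  haveI := isIso_toSect φ U
  NatIso.ofComponents (fun M => asIso (toSect φ U M)) (fun f => toSect_naturality φ U f)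

variable [HasInjectiveResolutions (ModSite.Mod O)] [HasInjectiveResolutions (ModSite.Mod O')]

theorem nonempty_HZsh_rho_iso (q : ℕ) :
    Nonempty (ModSite.HZsh O' U q ⋙ rho φ ≅ rho φ ⋙ ModSite.HZsh O U q) := by
  haveI : PreservesLimitsOfSize.{0, 0} (ModSite.sectOn O U) := (CohLib.quotSectAdj U).rightAdjoint_preservesLimits
  haveI : PreservesFiniteLimits (ModSite.sectOn O U) := PreservesLimitsOfSize.preservesFiniteLimits _
  haveI : EnoughInjectives (ModSite.Mod O) := inferInstanceAs (EnoughInjectives (SheafOfModules.{u} (ModSite.ringSh O)))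
  exact ⟨(Groth.Agent.RightDerCompLib.rightDerivedCompExact (ModSite.sectOn O' U) (rho φ) q).symm ≪≫
    Groth.Agent.RightDerCompLib.rightDerivedCongr (sectOnRhoIso φ U) q ≪≫
    AcycCompLib.compIso (rho φ) (ModSite.sectOn O U) (fun I hI => by
      rw [SpSeqLib.isSAcyclic_iff]
      intro p hp
      obtain ⟨n, rfl⟩ := Nat.exists_eq_add_of_le' hp
      haveI := hI
      exact isZero_HZsh U n ((rho φ).obj I) (CohLib.isTotallyAcyclic_toSheaf (ModSite.ringSh O') I)) q⟩

end HZSubLib
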